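import Cfsg.Agent.Lib.DEightWreath.Model

/-!
# Automorphisms of the wreath product of the dihedral group of order eight by a group of order two
-/

set_option autoImplicit false

namespace Cfsg.Agent.DEightWreath

open Subgroup
open scoped commutatorElement

theorem normal_sixteen (V : Subgroup W) (hn : ∀ g : W, ∀ v ∈ V, g * v * g⁻¹ ∈ V)
    (hc : ∀ v ∈ V, ∀ w ∈ V, v * w = w * v) (hsq : ∀ v ∈ V, v ^ 2 = 1) (hcard : Nat.card V = 16) :
    V = V1 ∨ V = V2 := by
  have hcand : ∀ v ∈ V, v ∈ V1 ∨ v ∈ V2 := fun v hv =>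
    candidates v (hsq v hv) (hc v hv _ (hn elR v hv)) (hc v hv _ (hn sigma v hv))
  have key : V ≤ V1 ∨ V ≤ V2 := by
    by_contra hno
    rw [not_or, SetLike.not_le_iff_exists, SetLike.not_le_iff_exists] at hno
    obtain ⟨⟨x, hx, hx1⟩, ⟨y, hy, hy2⟩⟩ := hno
    have hx2 : x ∈ V2 := (hcand x hx).resolve_left hx1
    have hy1 : y ∈ V1 := (hcand y hy).resolve_right hy2
    rcases hcand _ (V.mul_mem hx hy) with h | h
    · exact hx1 ((mul_mem_cancel_right hy1).1 h)
    · exact hy2 ((mul_mem_cancel_left hx2).1 h)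
  rcases key with h | h
  · exact Or.inl (eq_of_le_of_card_ge h (by rw [card_V1, hcard]))
  · exact Or.inr (eq_of_le_of_card_ge h (by rw [card_V2, hcard]))

theorem map_V (α : MulAut W) (V : Subgroup W) (hV : V = V1 ∨ V = V2) :
    V.map α.toMonoidHom = V1 ∨ V.map α.toMonoidHom = V2 := by
  have hVn : ∀ g : W, ∀ v ∈ V, g * v * g⁻¹ ∈ V := by
    rcases hV with rfl | rfl
    · exact fun g v hv => V_normal v hv g
    · exact fun g v hv => V_normal2 v hv g
  refine normal_sixteen _ ?_ ?_ ?_ ?_
  · rintro g _ ⟨v, hv, rfl⟩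
    exact ⟨α.symm g * v * (α.symm g)⁻¹, hVn _ v hv, by simp⟩
  · rintro _ ⟨v, hv, rfl⟩ _ ⟨w, hw, rfl⟩
    rw [← map_mul, ← map_mul]
    rcases hV with rfl | rfl
    · rw [V_comm v hv w hw]
    · rw [V_comm2 v hv w hw]
  · rintro _ ⟨v, hv, rfl⟩
    rw [← map_pow]
    rcases hV with rfl | rfl
    · rw [V_sq v (Or.inl hv), map_one]
    · rw [V_sq v (Or.inr hv), map_one]
  · rw [card_map_of_injective α.injective]
    rcases hV with rfl | rfl
    · exact card_V1
    · exact card_V2

theorem map_V2_of_fix (α : MulAut W) (h : V1.map α.toMonoidHom = V1) : V2.map α.toMonoidHom = V2 :=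
  (map_V α V2 (Or.inr rfl)).resolve_left fun h2 =>
    V_ne (map_injective α.injective (h.trans h2.symm))

theorem mapsTo (α : MulAut W) {V V' : Subgroup W} (h : V.map α.toMonoidHom = V') {x : W} (hx : x ∈ V) :
    α x ∈ V' := h ▸ ⟨x, hx, rfl⟩

theorem swap_false (α : MulAut W) {x : W} (hx : x.swap = false) : (α x).swap = false := by
  obtain ⟨a, ha, hb⟩ := decomp x hx
  have hmem : ∀ v, isV1 v = true ∨ isV2 v = true → (α v).swap = false := fun v hv => by
    rcases hv with hv | hv
    · exact swap_mul _ ((map_V α V1 (Or.inl rfl)).imp (fun h => mapsTo α h hv) (fun h => mapsTo α h hv))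
    · exact swap_mul _ ((map_V α V2 (Or.inr rfl)).imp (fun h => mapsTo α h hv) (fun h => mapsTo α h hv))
  rw [show x = a * (a⁻¹ * x) by group, map_mul, mul_def]
  show xor _ _ = false
  rw [hmem a (Or.inl ha), hmem _ (Or.inr hb)]
  rfl

theorem isCl_map (α : MulAut W) {x : W} (hx : isCl x = true) : isCl (α x) = true := by
  simp only [isCl, Bool.and_eq_true, decide_eq_true_eq] at hx ⊢
  refine ⟨?_, by rw [← map_mul, hx.2, map_one]⟩
  by_contra hne
  have := swap_false α.symm (x := α x) (by simpa using hne)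
  rw [MulEquiv.symm_apply_apply, hx.1] at this
  exact Bool.noConfusion this

theorem isZ_map (α : MulAut W) (h : V1.map α.toMonoidHom = V1) {x : W} (hx : isZ x = true) :
    isZ (α x) = true :=
  (isZ_iff _).2 ⟨mapsTo α h ((isZ_iff x).1 hx).1, mapsTo α (map_V2_of_fix α h) ((isZ_iff x).1 hx).2⟩

theorem elA_mem : elA ∈ V1 := mem_V1.2 (by decide)
theorem elB_mem : elB ∈ V1 := mem_V1.2 (by decide)

/-- An automorphism fixing the first four group acts trivially up to an inner automorphism. -/
theorem normalise (α : MulAut W) (h : V1.map α.toMonoidHom = V1) :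
    ∃ m : W, (∀ z, isZ z = true → α (m * z * m⁻¹) = z) ∧
      ∀ k : W, k.swap = false → isZ (k⁻¹ * α (m * k * m⁻¹)) = true := by
  have hconjV1 : ∀ m : W, V1.map (MulAut.conj m).toMonoidHom = V1 := fun m => by
    refine eq_of_le_of_card_ge ?_ (le_of_eq (card_map_of_injective (MulAut.conj m).injective).symm)
    rintro _ ⟨v, hv, rfl⟩
    exact V_normal v hv m
  -- the coset of the fixed points is invariant
  have hC : ∀ β : MulAut W, V1.map β.toMonoidHom = V1 → isZ ((elA * elB)⁻¹ * β (elA * elB)) = true := by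
    intro β hβ
    rcases fixed1 (β (elA * elB)) (mapsTo β hβ (mul_mem elA_mem elB_mem)) (fun p => by
      have := isZ_map β hβ (fixed2 (β.symm p))
      rwa [map_commutatorElement, MulEquiv.apply_symm_apply] at this) with hz | hz
    · exfalso
      have hβ' : V1.map β.symm.toMonoidHom = V1 := by
        conv_lhs => rw [← hβ]
        rw [map_map]
        convert map_id V1
        ext x; simp
      have := isZ_map β.symm hβ' hz
      rw [MulEquiv.symm_apply_apply] at this
      revert this
      decide
    · exact hz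
  obtain ⟨m, hm⟩ : ∃ m : W, isZ (elA⁻¹ * α (m * elA * m⁻¹)) = true := by
    rcases coset1 (α elA) (mapsTo α h elA_mem) with hz | hz | hz | hz
    · exfalso
      have hα' : V1.map α.symm.toMonoidHom = V1 := by
        conv_lhs => rw [← h]
        rw [map_map]
        convert map_id V1
        ext x; simp
      have := isZ_map α.symm hα' hz
      rw [MulEquiv.symm_apply_apply] at this
      revert this
      decide
    · exact ⟨1, by rwa [one_mul, inv_one, mul_one]⟩
    · refine ⟨sigma, ?_⟩
      -- the image of `elB` is then in the class of `elA`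
      have hab := hC α h
      rw [map_mul] at hab
      have hαB : isV1 (α elB) = true := mapsTo α h elB_mem
      have hαA : isV1 (α elA) = true := mapsTo α h elA_mem
      rw [show sigma * elA * sigma⁻¹ = elB by decide]
      revert hab hz
      generalize α elB = u at hαB
      generalize α elA = w at hαA
      intro hz hab
      have key : ∀ w, isV1 w = true → isZ (elB⁻¹ * w) = true → ∀ u, isV1 u = true →
          isZ ((elA * elB)⁻¹ * (w * u)) = true → isZ (elA⁻¹ * u) = true := by decide +kernel
      exact key w hαA hz u hαB hab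
    · exfalso
      have hαA : isV1 (α elA) = true := mapsTo α h elA_mem
      have hnc : ¬ ∀ p : W, isZ ⁅p, elA * 1⁆ = true := fun hall => by
        have := fixed3 1 (by decide)
        rw [hall sigma] at this
        exact Bool.noConfusion this
      apply hnc
      intro p
      have hfix : ∀ p : W, isZ ⁅p, α elA⁆ = true := by
        have key : ∀ w, isV1 w = true → isZ ((elA * elB)⁻¹ * w) = true → ∀ p : W, isZ ⁅p, w⁆ = true := by
          decide +kernel
        exact key _ hαA hz
      have hα' : V1.map α.symm.toMonoidHom = V1 := by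
        conv_lhs => rw [← h]
        rw [map_map]
        convert map_id V1
        ext x; simp
      have := isZ_map α.symm hα' (hfix (α p))
      rw [map_commutatorElement, MulEquiv.symm_apply_apply, MulEquiv.symm_apply_apply] at this
      rwa [mul_one]
  refine ⟨m, ?_⟩
  obtain ⟨β, hβdef⟩ : ∃ β : MulAut W, ∀ x, β x = α (m * x * m⁻¹) :=
    ⟨α * MulAut.conj m, fun x => rfl⟩
  simp only [← hβdef] at hm ⊢
  have hβ : V1.map β.toMonoidHom = V1 := by
    conv_rhs => rw [← h, ← hconjV1 m]
    rw [map_map]
    congr 1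
    ext x
    exact hβdef x
  have hβ2 := map_V2_of_fix β hβ
  have hbA : ∃ z, isZ z = true ∧ β elA = elA * z := ⟨_, hm, by group⟩
  have hbB : ∃ z, isZ z = true ∧ β elB = elB * z := by
    have key : ∀ u, isV1 u = true → ∀ w, isV1 w = true → isZ (elA⁻¹ * w) = true →
        isZ ((elA * elB)⁻¹ * (w * u)) = true → isZ (elB⁻¹ * u) = true := by decide +kernel
    refine ⟨_, key _ (mapsTo β hβ elB_mem) _ (mapsTo β hβ elA_mem) hm ?_, by group⟩
    rw [← map_mul]
    exact hC β hβ
  obtain ⟨za, hza, hβa⟩ := hbA
  obtain ⟨zb, hzb, hβb⟩ := hbB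
  have hY : isV2 elY = true := by decide
  have hz1 : β z1 = z1 := by
    conv_lhs => rw [← pairing', map_commutatorElement, hβa,
      (comm_absorb za hza _ (mapsTo β hβ2 hY)).1]
    rcases pairing _ (mapsTo β hβ2 hY) with h1 | h1
    · exfalso
      have h2 : β ⁅elA, elY⁆ = 1 := by
        rw [map_commutatorElement, hβa, (comm_absorb za hza _ (mapsTo β hβ2 hY)).1, h1]
      rw [pairing', MulEquiv.map_eq_one_iff] at h2
      exact absurd h2 (by decide)
    · exact h1
  have hzz : β zz = zz := by
    have hc : ∀ x, β zz * x = x * β zz := fun x => by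
      have := congrArg β (zz_central (β.symm x))
      rwa [map_mul, map_mul, MulEquiv.apply_symm_apply] at this
    rcases center_W (β zz) (hc _) (hc _) (hc _) with h1 | h1
    · rw [MulEquiv.map_eq_one_iff] at h1
      exact absurd h1 (by decide)
    · exact h1
  have hfixZ : ∀ z, isZ z = true → β z = z := fun z hz => by
    rcases z_gen z hz with rfl | rfl | rfl | rfl
    · exact map_one β
    · exact hz1
    · exact hzz
    · rw [map_mul, hz1, hzz]
  refine ⟨hfixZ, fun k hk => ?_⟩
  obtain ⟨a, ha, hb⟩ := decomp k hk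
  have h1 : isZ (a⁻¹ * β a) = true := by
    rcases coset1 a ha with hz | hz | hz | hz
    · rw [hfixZ a hz, inv_mul_cancel]; decide
    · obtain ⟨z, hz', rfl⟩ : ∃ z, isZ z = true ∧ a = elA * z := ⟨_, hz, by group⟩
      rw [map_mul, hfixZ z hz', hβa, show (elA * z)⁻¹ * (elA * za * z) = z⁻¹ * za * z by group,
        mul_assoc, z_central za hza z (swap_mul z (Or.inl ((isZ_iff z).1 hz').1)), ← mul_assoc,
        inv_mul_cancel, one_mul]
      exact hza
    · obtain ⟨z, hz', rfl⟩ : ∃ z, isZ z = true ∧ a = elB * z := ⟨_, hz, by group⟩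
      rw [map_mul, hfixZ z hz', hβb, show (elB * z)⁻¹ * (elB * zb * z) = z⁻¹ * zb * z by group,
        mul_assoc, z_central zb hzb z (swap_mul z (Or.inl ((isZ_iff z).1 hz').1)), ← mul_assoc,
        inv_mul_cancel, one_mul]
      exact hzb
    · obtain ⟨z, hz', rfl⟩ : ∃ z, isZ z = true ∧ a = (elA * elB) * z := ⟨_, hz, by group⟩
      rw [map_mul, map_mul, hfixZ z hz', hβa, hβb]
      have key : ∀ za, isZ za = true → ∀ zb, isZ zb = true → ∀ z, isZ z = true →
          isZ ((elA * elB * z)⁻¹ * (elA * za * (elB * zb) * z)) = true := by decide +kernel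
      exact key za hza zb hzb z hz'
  have h2 : isZ ((a⁻¹ * k)⁻¹ * β (a⁻¹ * k)) = true := by
    have hmem := mapsTo β hβ2 (mem_V2.2 hb)
    refine pairing2 _ hb _ hmem ?_ ?_
    · have h3 := hfixZ _ (pairing3 _ hb).1
      rw [map_commutatorElement, hβa, (comm_absorb za hza _ hmem).1] at h3
      exact h3.symm
    · have h3 := hfixZ _ (pairing3 _ hb).2
      rw [map_commutatorElement, hβb, (comm_absorb zb hzb _ hmem).2] at h3
      exact h3.symm
  have hk' : β k = β a * β (a⁻¹ * k) := by rw [← map_mul, mul_inv_cancel_left]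
  rw [hk', show k⁻¹ * (β a * β (a⁻¹ * k)) = (a⁻¹ * k)⁻¹ * (a⁻¹ * β a) * β (a⁻¹ * k) by group,
    mul_assoc, z_central _ h1 _ (swap_false β (swap_mul _ (Or.inr hb))), ← mul_assoc]
  exact z_mul _ h2 _ h1

/-- An automorphism moving the first four group fixes the wreathing class pointwise only up to a contradiction. -/
theorem fix_class (α : MulAut W) (h : ∀ x, isCl x = true → α x = x) : V1.map α.toMonoidHom = V1 := by
  refine (map_V α V1 (Or.inl rfl)).resolve_right fun h2 => ?_
  have hab : α (elA * elB) = elA * elB := by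
    have e : elA * elB = (elA * sigma * elA⁻¹) * sigma := by decide
    rw [e, map_mul, h _ cl_mem.2.2.1, h _ cl_mem.1]
  have := mapsTo α h2 (mul_mem elA_mem elB_mem)
  rw [hab] at this
  exact absurd this (by decide)

end Cfsg.Agent.DEightWreath
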