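import Mathlib

/-!
# The wreath product of the dihedral group of order eight by a group of order two
-/

set_option autoImplicit false
set_option maxRecDepth 100000

namespace Cfsg.Agent.DEightWreath

open DihedralGroup
open scoped commutatorElement

/-- `D₈ ≀ C₂`. -/
structure W where
  fst : DihedralGroup 4
  snd : DihedralGroup 4
  swap : Bool
deriving DecidableEq

def equiv : W ≃ DihedralGroup 4 × DihedralGroup 4 × Bool where
  toFun x := (x.fst, x.snd, x.swap)
  invFun x := ⟨x.1, x.2.1, x.2.2⟩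
  left_inv _ := rfl
  right_inv _ := rfl

instance : Fintype W := Fintype.ofEquiv _ equiv.symm

instance : Mul W := ⟨fun x y =>
  ⟨x.fst * (if x.swap then y.snd else y.fst), x.snd * (if x.swap then y.fst else y.snd), xor x.swap y.swap⟩⟩
instance : One W := ⟨⟨1, 1, false⟩⟩
instance : Inv W := ⟨fun x =>
  ⟨if x.swap then x.snd⁻¹ else x.fst⁻¹, if x.swap then x.fst⁻¹ else x.snd⁻¹, x.swap⟩⟩

theorem mul_def (x y : W) : x * y =
    ⟨x.fst * (if x.swap then y.snd else y.fst), x.snd * (if x.swap then y.fst else y.snd), xor x.swap y.swap⟩ := rfl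

instance : Group W where
  mul_assoc := by rintro ⟨a, b, i⟩ ⟨c, d, j⟩ ⟨e, f, k⟩; cases i <;> cases j <;> simp [mul_def, mul_assoc]
  one_mul := by rintro ⟨a, b, i⟩; show (⟨1, 1, false⟩ : W) * _ = _; simp [mul_def]
  mul_one := by rintro ⟨a, b, i⟩; show _ * (⟨1, 1, false⟩ : W) = _; cases i <;> simp [mul_def]
  inv_mul_cancel := by
    rintro ⟨a, b, i⟩
    show (⟨_, _, _⟩ : W) * _ = ⟨1, 1, false⟩
    cases i <;> simp [mul_def]

theorem card_W : Nat.card W = 128 := by rw [Nat.card_eq_fintype_card]; rfl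

/-- The permutations of a square. -/
def pt (d : DihedralGroup 4) (x : ZMod 4) : ZMod 4 :=
  match d with
  | r k => x + k
  | sr k => -x - k

theorem pt_mul : ∀ a b : DihedralGroup 4, ∀ x : ZMod 4, pt (a * b) x = pt a (pt b x) := by decide +kernel

/-- The action on eight points. -/
def act (m : W) (z : Bool × ZMod 4) : Bool × ZMod 4 :=
  (xor m.swap z.1, pt (if xor m.swap z.1 then m.snd else m.fst) z.2)

theorem act_mul : ∀ (m n : W) (z : Bool × ZMod 4), act (m * n) z = act m (act n z) := by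
  rintro ⟨a, b, i⟩ ⟨c, d, j⟩ ⟨k, x⟩
  cases i <;> cases j <;> cases k <;> simp [act, mul_def, pt_mul]

theorem act_one : ∀ z : Bool × ZMod 4, act 1 z = z := by decide +kernel

instance : MulAction W (Bool × ZMod 4) where
  smul := act
  one_smul := act_one
  mul_smul := act_mul

theorem exists_perm_hom : ∃ f : W →* Equiv.Perm (Fin 8), Function.Injective f := by
  let e : Bool × ZMod 4 ≃ Fin 8 := Fintype.equivFinOfCardEq (by decide)
  refine ⟨e.permCongrHom.toMonoidHom.comp (MulAction.toPermHom W (Bool × ZMod 4)),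
    e.permCongrHom.injective.comp ?_⟩
  rw [injective_iff_map_eq_one]
  intro m hm
  have h : ∀ z : Bool × ZMod 4, m • z = z := fun z => Equiv.congr_fun hm z
  revert h; revert m
  decide +kernel

def isV1 (x : W) : Bool :=
  !x.swap && decide (x.fst ∈ [r 0, r 2, sr 0, sr 2]) && decide (x.snd ∈ [r 0, r 2, sr 0, sr 2])

def isV2 (x : W) : Bool :=
  !x.swap && decide (x.fst ∈ [r 0, r 2, sr 1, sr 3]) && decide (x.snd ∈ [r 0, r 2, sr 1, sr 3])

def isZ (x : W) : Bool :=
  !x.swap && decide (x.fst ∈ [r 0, r 2]) && decide (x.snd ∈ [r 0, r 2])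

def V1 : Subgroup W where
  carrier := {x | isV1 x = true}
  one_mem' := by decide
  mul_mem' := by decide +kernel
  inv_mem' := by decide +kernel

def V2 : Subgroup W where
  carrier := {x | isV2 x = true}
  one_mem' := by decide
  mul_mem' := by decide +kernel
  inv_mem' := by decide +kernel

theorem mem_V1 {x : W} : x ∈ V1 ↔ isV1 x = true := Iff.rfl
theorem mem_V2 {x : W} : x ∈ V2 ↔ isV2 x = true := Iff.rfl

instance : DecidablePred (· ∈ V1) := fun _ => decidable_of_iff _ mem_V1.symm
instance : DecidablePred (· ∈ V2) := fun _ => decidable_of_iff _ mem_V2.symm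

theorem card_V1 : Nat.card V1 = 16 := by rw [Nat.card_eq_fintype_card]; decide +kernel
theorem card_V2 : Nat.card V2 = 16 := by rw [Nat.card_eq_fintype_card]; decide +kernel

theorem isZ_iff : ∀ x, isZ x = true ↔ (isV1 x = true ∧ isV2 x = true) := by decide +kernel

def sigma : W := ⟨1, 1, true⟩
def elA : W := ⟨sr 0, 1, false⟩
def elB : W := ⟨1, sr 0, false⟩
def elY : W := ⟨sr 1, 1, false⟩
def elR : W := ⟨r 1, 1, false⟩
def zz : W := ⟨r 2, r 2, false⟩
def z1 : W := ⟨r 2, 1, false⟩

theorem candidates : ∀ x : W, x ^ 2 = 1 →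
    x * (elR * x * elR⁻¹) = elR * x * elR⁻¹ * x → x * (sigma * x * sigma⁻¹) = sigma * x * sigma⁻¹ * x →
    isV1 x = true ∨ isV2 x = true := by decide +kernel

theorem V_sq : ∀ x, isV1 x = true ∨ isV2 x = true → x ^ 2 = 1 := by decide +kernel
theorem V_comm : ∀ x, isV1 x = true → ∀ y, isV1 y = true → x * y = y * x := by decide +kernel
theorem V_comm2 : ∀ x, isV2 x = true → ∀ y, isV2 y = true → x * y = y * x := by decide +kernel
theorem V_normal : ∀ x, isV1 x = true → ∀ g : W, isV1 (g * x * g⁻¹) = true := by decide +kernel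
theorem V_normal2 : ∀ x, isV2 x = true → ∀ g : W, isV2 (g * x * g⁻¹) = true := by decide +kernel
theorem V_ne : V1 ≠ V2 := fun h => absurd (h ▸ (mem_V1.2 (by decide) : elA ∈ V1) : elA ∈ V2) (by decide)

theorem center_W : ∀ x : W, x * elR = elR * x → x * sigma = sigma * x → x * elA = elA * x →
    x = 1 ∨ x = zz := by decide +kernel
theorem zz_central : ∀ x : W, zz * x = x * zz := by decide +kernel

theorem swap_mul : ∀ x : W, isV1 x = true ∨ isV2 x = true → x.swap = false := by decide +kernel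
theorem decomp : ∀ x : W, x.swap = false → ∃ a, isV1 a = true ∧ isV2 (a⁻¹ * x) = true := by decide +kernel

theorem coset1 : ∀ x, isV1 x = true → isZ x = true ∨ isZ (elA⁻¹ * x) = true ∨ isZ (elB⁻¹ * x) = true
    ∨ isZ ((elA * elB)⁻¹ * x) = true := by decide +kernel
theorem fixed1 : ∀ x, isV1 x = true → (∀ p : W, isZ ⁅p, x⁆ = true) →
    isZ x = true ∨ isZ ((elA * elB)⁻¹ * x) = true := by decide +kernel
theorem fixed2 : ∀ p : W, isZ ⁅p, elA * elB⁆ = true := by decide +kernel
theorem fixed3 : ∀ x, isZ x = true → isZ ⁅sigma, elA * x⁆ = false := by decide +kernel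
theorem pairing : ∀ y, isV2 y = true → ⁅elA, y⁆ = 1 ∨ ⁅elA, y⁆ = z1 := by decide +kernel
theorem pairing' : ⁅elA, elY⁆ = z1 := by decide +kernel
theorem pairing2 : ∀ y, isV2 y = true → ∀ y', isV2 y' = true → ⁅elA, y⁆ = ⁅elA, y'⁆ →
    ⁅elB, y⁆ = ⁅elB, y'⁆ → isZ (y⁻¹ * y') = true := by decide +kernel
theorem pairing3 : ∀ y, isV2 y = true → isZ ⁅elA, y⁆ = true ∧ isZ ⁅elB, y⁆ = true := by decide +kernel
theorem comm_absorb : ∀ z, isZ z = true → ∀ y, isV2 y = true →
    ⁅elA * z, y⁆ = ⁅elA, y⁆ ∧ ⁅elB * z, y⁆ = ⁅elB, y⁆ := by decide +kernel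
theorem z_gen : ∀ x, isZ x = true → x = 1 ∨ x = z1 ∨ x = zz ∨ x = z1 * zz := by decide +kernel
theorem z_mul : ∀ x, isZ x = true → ∀ y, isZ y = true → isZ (x * y) = true := by decide +kernel
theorem z_sq : ∀ x, isZ x = true → x * x = 1 := by decide +kernel
theorem z_central : ∀ x, isZ x = true → ∀ y : W, y.swap = false → x * y = y * x := by decide +kernel
theorem center_K : ∀ x : W, x.swap = false → x * elA = elA * x → x * elB = elB * x → x * elY = elY * x →
    x * ⟨1, sr 1, false⟩ = ⟨1, sr 1, false⟩ * x → isZ x = true := by decide +kernel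

/-- The class of the wreathing involution. -/
def isCl (x : W) : Bool := x.swap && decide (x * x = 1)

theorem card_Cl : Fintype.card {x : W // isCl x = true} = 8 := by decide +kernel
theorem cl_centralizer : ∀ x : W, x * sigma = sigma * x → x * (elR * sigma * elR⁻¹) = (elR * sigma * elR⁻¹) * x →
    x * (elA * sigma * elA⁻¹) = (elA * sigma * elA⁻¹) * x →
    x * (elY * sigma * elY⁻¹) = (elY * sigma * elY⁻¹) * x → x = 1 ∨ x = zz := by decide +kernel
theorem cl_mem : isCl sigma = true ∧ isCl (elR * sigma * elR⁻¹) = true ∧ isCl (elA * sigma * elA⁻¹) = true ∧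
    isCl (elY * sigma * elY⁻¹) = true := by
  decide +kernel

end Cfsg.Agent.DEightWreath
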